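import Cfsg.Prelude.Def_Sporadic
import Cfsg.Agent.Helper28.ONC.Main
import Cfsg.Agent.Helper28.PermModel
set_option autoImplicit false
set_option maxRecDepth 1000000

/-!
# The O'Nan group as a transitive permutation group on 122760 points
-/

namespace Cfsg.Agent.Helper28.ON460
open Cfsg.Agent.Helper28 Cfsg.Agent.Helper28.ON1 Cfsg.Agent.Helper28.ONC Cfsg.Spor

/-- the permutation group of the coset table -/
noncomputable abbrev H : Subgroup (Equiv.Perm (Fin 122760)) := KK idx 7 ptabs inv_ok layout.hL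

theorem card_H : Nat.card ↥H = 460815505920 := by
  have h := card_KK_of_injective ON1.R idx 7 ptabs inv_ok layout.hL ONC.hrels card_inj.2
  rw [card_inj.1] at h
  exact h

theorem simple_H : IsSimpleGroup ↥H :=
  simple_KK ON1.R idx 7 ptabs inv_ok layout.hL ONC.hrels card_inj.2 ONC.simple

theorem isON_H : Cfsg.IsON ↥H := ⟨simple_H, card_H⟩

instance trans_H : MulAction.IsPretransitive ↥H (Fin 122760) :=
  pretransitive_KK gen idx 7 ptabs inv_ok layout.hL layout.hig hn ws1 7 let_ok1 fix_ok1 orb1 orb_ok1 root_ok1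

theorem stab_H : Nat.card ↥(MulAction.stabilizer (↥H) (0 : Fin 122760)) = 3753792 :=
  card_stabilizer_of_pretransitive H 0 460815505920 3753792 card_H (by norm_num) (by norm_num)

/-- the pointwise stabiliser of the base is trivial -/
theorem base_trivial :
    Nat.card ↥(KK idx 7 ptabs inv_ok layout.hL ⊓ fixAllN [77678, 31190, 1, 0]) = 1 := by
  have h4 := level_ge gen idx 7 ptabs inv_ok layout.hL layout.hig ws4 1 let_ok4 [31190, 1, 0] fix_ok4 orb4 orb_ok4 77678 (by decide +kernel) 2 _ cnt4 (le_refl _)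
  have h3 := level_ge gen idx 7 ptabs inv_ok layout.hL layout.hig ws3 3 let_ok3 [1, 0] fix_ok3 orb3 orb_ok3 31190 (by decide +kernel) 32 _ cnt3 h4
  have h2 := level_ge gen idx 7 ptabs inv_ok layout.hL layout.hig ws2 6 let_ok2 [0] fix_ok2 orb2 orb_ok2 1 (by decide +kernel) 58653 _ cnt2 h3
  have h1 := level_ge gen idx 7 ptabs inv_ok layout.hL layout.hig ws1 7 let_ok1 [] fix_ok1 orb1 orb_ok1 0 (by decide +kernel) 122760 _ cnt1 h2
  rw [← card_level0N] at h1
  have h0 : Nat.card ↥(KK idx 7 ptabs inv_ok layout.hL) = 460815505920 := card_H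
  rw [h0] at h1
  have h5 := one_le_card_sub (KK idx 7 ptabs inv_ok layout.hL ⊓ fixAllN [77678, 31190, 1, 0])
  omega

/-- a word of the O'Nan generators that fixes the base is trivial in the presented group -/
theorem mk_eq_one_of_base (w : List ℕ) (hlet : ∀ l ∈ w, l < ptabs.L)
    (hfix : ∀ b ∈ [77678, 31190, 1, 0], trace ptabs.perm w b = b) :
    PresentedGroup.mk ON1.R (ev gen 7 w) = 1 :=
  mk_ev_eq_one_of_base ON1.R gen idx 7 ptabs inv_ok layout.hL ONC.hrels card_inj.2 layout.hig
    [77678, 31190, 1, 0] base_trivial w hlet hfix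

/-- the isomorphism of the presented group with the permutation group -/
noncomputable def eH : PresentedGroup ON1.R ≃* ↥H :=
  equivKK ON1.R idx 7 ptabs inv_ok layout.hL ONC.hrels card_inj.2

/-- the image of a word that moves a point is not trivial -/
theorem eH_ne_one (w : List ℕ) (hlet : ∀ l ∈ w, l < ptabs.L) (i : ℕ) (hi : i < ptabs.n)
    (hmove : trace ptabs.perm w i ≠ i) : eH (PresentedGroup.mk ON1.R (ev gen 7 w)) ≠ 1 := by
  intro h
  apply hmove
  have h1 : rhoF idx 7 ptabs inv_ok layout.hL (ev gen 7 w) = 1 := congrArg Subtype.val h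
  have h2 := rhoF_ev_inv gen idx 7 ptabs inv_ok layout.hL layout.hig w hlet ⟨i, hi⟩
  rw [h1, inv_one] at h2
  exact h2.symm

end Cfsg.Agent.Helper28.ON460
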