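import Cfsg.Agent.Helper28.ON460.Sub
import Cfsg.Agent.Helper28.J1C.Main
set_option autoImplicit false
set_option maxRecDepth 1000000

/-!
# A subgroup `J₁` of the O'Nan permutation group
-/

namespace Cfsg.Agent.Helper28.ON460
open Cfsg.Agent.Helper28 Cfsg.Spor

/-- the conjugating word -/
def gwJ : List Nat := [3, 11, 7, 3, 5, 1, 1, 9, 2, 7, 0, 3, 10, 10, 0, 0, 4, 3, 9, 4, 5, 5, 3, 2, 3, 12, 11, 7, 8, 10, 7, 2, 13, 9, 4, 0, 13, 7, 8]

/-- the images of the standard generators of `J₁` as words of the O'Nan generators -/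
noncomputable def waJ (k : Nat) : List Nat :=
  if k = 0 then [2] else invW gwJ ++ [2, 4] ++ gwJ

/-- the relators of `J₁` as words -/
noncomputable def rwJ (j : Nat) : List Nat := J1B.tabs.word (J1B.tabs.nsub + 2 * 2 + j)

theorem letJ : lettersOkW (fun j => (rwJ j).flatMap (substL waJ)) J1P.extra.length ON1.ptabs.L = true := by
  decide +kernel

theorem fixJ : fixOkW (fun j => (rwJ j).flatMap (substL waJ)) J1P.extra.length ON1.ptabs
    [77678, 31190, 1, 0] = true := by
  decide +kernel

theorem exists_J1 : ∃ K : Subgroup ↥H, Cfsg.IsJ1 K := by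
  obtain ⟨K, hK, hc⟩ := exists_sub J1B.gen J1B.idx 2 J1P.extra J1B.layout.hig rwJ J1B.layout.hextra
    (fun j hj l hl => by
      have h := J1B.layout.hletters (J1B.tabs.nsub + 2 * 2 + j)
        (by rw [J1B.layout.hnwords]; omega) l hl
      rw [J1B.layout.hL] at h
      exact h)
    waJ letJ fixJ J1C.simple J1P.Gen.a (by decide +kernel) 2 (by decide +kernel) (by decide +kernel)
  refine ⟨K, hK, ?_⟩
  rw [hc]
  exact J1C.card_inj.1

end Cfsg.Agent.Helper28.ON460
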