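import Cfsg.Agent.Helper28.ON460.Pres
import Cfsg.Agent.Helper28.L37Iso
set_option autoImplicit false
set_option maxRecDepth 1000000

/-!
# A normal subgroup `L₃(7)` of index 2 in the subgroup `L₃(7):2` of the presented O'Nan group
-/

namespace Cfsg.Agent.Helper28.ON460
open Cfsg.Agent.Helper28 Cfsg.Spor

/-- the image of the generator `x` as a word of the O'Nan generators -/
def wxL : List Nat := [8, 12, 6, 4, 8, 6, 8, 10, 4, 6, 2, 8, 6, 12, 4, 10]

/-- the images of the generators of `L₃(7)` as words of the O'Nan generators -/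
noncomputable def waL (k : Nat) : List Nat :=
  if k = 0 then [8, 10, 8, 4] else wxL

/-- the relators of `L₃(7)` as words -/
noncomputable def rwL (j : Nat) : List Nat := L37B.tabs.word (L37B.tabs.nsub + 2 * 2 + j)

theorem letL : lettersOkW (fun j => (rwL j).flatMap (substL waL)) L37P.extra.length ON1.ptabs.L = true := by
  decide +kernel

theorem fixL : fixOkW (fun j => (rwL j).flatMap (substL waL)) L37P.extra.length ON1.ptabs
    [77678, 31190, 1, 0] = true := by
  decide +kernel

theorem exists_L37_pres : ∃ N : Subgroup ↥(HH ON1.R ON1.Y),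
    N.Normal ∧ N.index = 2 ∧
      Nonempty (N ≃* Matrix.ProjectiveSpecialLinearGroup (Fin 3) (ZMod 7)) := by
  obtain ⟨N, ⟨e⟩⟩ := exists_HH_sub L37B.gen L37B.idx 2 L37P.extra L37B.layout.hig
    (fun b => by cases b <;> decide) rwL L37B.layout.hextra
    (fun j hj l hl => by
      have h := L37B.layout.hletters (L37B.tabs.nsub + 2 * 2 + j)
        (by rw [L37B.layout.hnwords]; omega) l hl
      rw [L37B.layout.hL] at h
      exact h)
    waL letL fixL L37C.simple (by decide +kernel) (by decide +kernel)
    L37P.Gen.a 1 (by decide +kernel) (by decide +kernel)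
  have hc : Nat.card N = 1876896 := by
    rw [← Nat.card_congr e.toEquiv]
    exact L37C.card_inj.1
  obtain ⟨h1, h2⟩ := normal_index_two N hc
  exact ⟨N, h1, h2, ⟨e.symm.trans L37M.isoM⟩⟩

end Cfsg.Agent.Helper28.ON460
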