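import Cfsg.Agent.Helper28.ON460.Sub
import Cfsg.Agent.Helper28.M11C.Main
set_option autoImplicit false
set_option maxRecDepth 1000000

/-!
# A subgroup `M₁₁` of the O'Nan permutation group
-/

namespace Cfsg.Agent.Helper28.ON460
open Cfsg.Agent.Helper28 Cfsg.Spor

/-- the conjugating word -/
def gwM : List Nat := [5, 13, 10, 1, 11, 4, 6, 6, 2, 9, 5, 6, 6, 1, 1, 10, 8, 6, 8, 6, 11, 9, 4, 1, 6, 9, 11, 9, 3, 5, 7, 9, 11, 1, 3, 4, 7, 7, 11, 3, 12, 5, 8]

/-- the images of the standard generators of `M₁₁` as words of the O'Nan generators -/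
noncomputable def waM (k : Nat) : List Nat :=
  if k = 0 then [2] else invW gwM ++ [0] ++ gwM

/-- the relators of `M₁₁` as words -/
noncomputable def rwM (j : Nat) : List Nat := M11B.tabs.word (M11B.tabs.nsub + 2 * 2 + j)

theorem letM : lettersOkW (fun j => (rwM j).flatMap (substL waM)) M11P.extra.length ON1.ptabs.L = true := by
  decide +kernel

theorem fixM : fixOkW (fun j => (rwM j).flatMap (substL waM)) M11P.extra.length ON1.ptabs
    [77678, 31190, 1, 0] = true := by
  decide +kernel

theorem exists_M11 : ∃ K : Subgroup ↥H, Cfsg.IsM11 K := by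
  obtain ⟨K, hK, hc⟩ := exists_sub M11B.gen M11B.idx 2 M11P.extra M11B.layout.hig rwM M11B.layout.hextra
    (fun j hj l hl => by
      have h := M11B.layout.hletters (M11B.tabs.nsub + 2 * 2 + j)
        (by rw [M11B.layout.hnwords]; omega) l hl
      rw [M11B.layout.hL] at h
      exact h)
    waM letM fixM M11C.simple M11P.Gen.a (by decide +kernel) 2 (by decide +kernel) (by decide +kernel)
  refine ⟨K, hK, ?_⟩
  rw [hc]
  exact M11C.card_inj.1

end Cfsg.Agent.Helper28.ON460
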