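import Cfsg.Agent.Helper28.ON460.Base
set_option autoImplicit false
set_option maxRecDepth 1000000

/-!
# Simple subgroups of the O'Nan permutation group from presentations

A presented simple group whose generators are mapped to words of the O'Nan generators such that the
substituted relators fix the base gives a simple subgroup of the same order.
-/

namespace Cfsg.Agent.Helper28.ON460
open Cfsg.Agent.Helper28 Cfsg.Agent.Helper28.ON1 Cfsg.Agent.Helper28.ONC Cfsg.Spor

theorem exists_sub {β : Type} [DecidableEq β] (genS : Nat → β) (idxS : β → Nat) (ngenS : Nat)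
    (extraS : List (FreeGroup β)) (hig : ∀ k, k < ngenS → idxS (genS k) = k)
    (rw : Nat → List Nat)
    (hrw : ∀ j, j < extraS.length → ev genS ngenS (rw j) = extraS.getD j 1)
    (hrl : ∀ j, j < extraS.length → ∀ l ∈ rw j, l < 2 * ngenS)
    (wa : Nat → List Nat)
    (hlet : lettersOkW (fun j => (rw j).flatMap (substL wa)) extraS.length ptabs.L = true)
    (hfix : fixOkW (fun j => (rw j).flatMap (substL wa)) extraS.length ptabs
      [77678, 31190, 1, 0] = true)
    (hs : IsSimpleGroup (PresentedGroup (coxRels ([] : List (β × ℕ × β)) extraS)))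
    (b0 : β) (hlet0 : ∀ l ∈ wa (idxS b0), l < ptabs.L) (i : ℕ) (hi : i < ptabs.n)
    (hmove : trace ptabs.perm (wa (idxS b0)) i ≠ i) :
    ∃ K : Subgroup ↥H, IsSimpleGroup K ∧
      Nat.card K = Nat.card (PresentedGroup (coxRels ([] : List (β × ℕ × β)) extraS)) := by
  have hone : ∀ j, j < extraS.length →
      PresentedGroup.mk ON1.R (ev gen 7 ((rw j).flatMap (substL wa))) = 1 := by
    intro j hj
    apply mk_eq_one_of_base
    · intro l hl
      have := allL_sound _ _ (allLt_sound _ _ hlet j hj) l hl
      rwa [blt_eq] at this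
    · intro b hb
      have := allL_sound _ _ (allLt_sound _ _ hfix j hj) b hb
      rwa [nbeq_eq] at this
  let φ := PresentedGroup.toGroup
    (lift_homF_rels genS idxS ngenS ON1.R gen 7 wa extraS hig rw hrw hrl hone)
  refine exists_subgroup_of_hom hs (eH.toMonoidHom.comp φ) (PresentedGroup.of b0) ?_
  show eH (φ (PresentedGroup.of b0)) ≠ 1
  have e : φ (PresentedGroup.of b0) = homF idxS ON1.R gen 7 wa b0 := PresentedGroup.toGroup.of _
  rw [e]
  exact eH_ne_one _ hlet0 i hi hmove

end Cfsg.Agent.Helper28.ON460
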